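import Groth.Prelude.Def_W4c2gaugesfzipsQuiet
import Mathlib

/-! # Towers of `p`-th root extractions: base change, composition, lifting -/

set_option autoImplicit false
set_option linter.style.haveILetI false

universe u

open TensorProduct Polynomial

namespace GrothLib.RootTower4

variable {p : ℕ}

theorem monic_root (hp : p ≠ 0) {A : Type u} [CommRing A] (a : A) : (X ^ p - C a : A[X]).Monic :=
  monic_X_pow_sub_C _ hp

/-- Towers are stable under isomorphism of the top. -/
theorem of_algEquiv : ∀ (n : ℕ) (A B B' : Type u) [CommRing A] [CommRing B] [CommRing B'] [Algebra A B]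
    [Algebra A B'] (_ : B ≃ₐ[A] B'), Quiet.IsRootTower p n A B → Quiet.IsRootTower p n A B'
  | 0, _, _, _, _, _, _, _, _, e, ⟨f⟩ => ⟨e.symm.trans f⟩
  | n + 1, A, B, B', _, _, _, _, _, e, ⟨a, h1, h2, h⟩ => by
    letI := h1
    haveI := h2
    letI : Algebra (Quiet.RootRing p A a) B' :=
      (e.toAlgHom.toRingHom.comp (algebraMap (Quiet.RootRing p A a) B)).toAlgebra
    have : IsScalarTower A (Quiet.RootRing p A a) B' := IsScalarTower.of_algebraMap_eq fun r => by
      show algebraMap A B' r = e (algebraMap (Quiet.RootRing p A a) B (algebraMap A _ r))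
      rw [← IsScalarTower.algebraMap_apply, AlgEquiv.commutes]
    exact ⟨a, inferInstance, this, of_algEquiv n _ B B' { e.toRingEquiv with commutes' := fun _ => rfl } h⟩

/-- An elementary extraction base changes to an elementary extraction. -/
theorem rootRing_pushout (A A' : Type u) [CommRing A] [CommRing A'] [Algebra A A'] (a : A)
    [Algebra (Quiet.RootRing p A a) (Quiet.RootRing p A' (algebraMap A A' a))]
    [IsScalarTower A (Quiet.RootRing p A a) (Quiet.RootRing p A' (algebraMap A A' a))]
    (hroot : algebraMap (Quiet.RootRing p A a) (Quiet.RootRing p A' (algebraMap A A' a)) (AdjoinRoot.root _) =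
      AdjoinRoot.root _) :
    Algebra.IsPushout A A' (Quiet.RootRing p A a) (Quiet.RootRing p A' (algebraMap A A' a)) := by
  let φ : A' ⊗[A] (Quiet.RootRing p A a) →ₐ[A'] (Quiet.RootRing p A' (algebraMap A A' a)) :=
    Algebra.TensorProduct.lift (Algebra.ofId A' (Quiet.RootRing p A' (algebraMap A A' a))) (IsScalarTower.toAlgHom A (Quiet.RootRing p A a) (Quiet.RootRing p A' (algebraMap A A' a))) fun _ _ => Commute.all _ _
  let ψ : (Quiet.RootRing p A' (algebraMap A A' a)) →ₐ[A'] A' ⊗[A] (Quiet.RootRing p A a) :=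
    AdjoinRoot.liftAlgHom _ (Algebra.ofId A' (A' ⊗[A] (Quiet.RootRing p A a))) (1 ⊗ₜ AdjoinRoot.root _) (by
      have h0 : (AdjoinRoot.root (X ^ p - C a : A[X])) ^ p = algebraMap A (Quiet.RootRing p A a) a := by
        have := AdjoinRoot.eval₂_root (X ^ p - C a : A[X])
        simpa [sub_eq_zero, AdjoinRoot.algebraMap_eq] using this
      simp only [eval₂_sub, eval₂_X_pow, eval₂_C, sub_eq_zero]
      rw [Algebra.TensorProduct.tmul_pow, one_pow, h0]
      show (1 : A') ⊗ₜ[A] algebraMap A (Quiet.RootRing p A a) a = algebraMap A A' a ⊗ₜ[A] (1 : (Quiet.RootRing p A a))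
      rw [Algebra.algebraMap_eq_smul_one, Algebra.algebraMap_eq_smul_one, smul_tmul])
  have h1 : φ.comp ψ = AlgHom.id A' (Quiet.RootRing p A' (algebraMap A A' a)) := AdjoinRoot.algHom_ext (by
    rw [AlgHom.comp_apply, AdjoinRoot.liftAlgHom_root]
    simp [φ]
    exact hroot)
  have h2 : ψ.comp φ = AlgHom.id A' (A' ⊗[A] (Quiet.RootRing p A a)) := by
    refine Algebra.TensorProduct.ext (AlgHom.ext fun x => ?_) (AdjoinRoot.algHom_ext ?_)
    · exact (ψ.comp φ).commutes x
    · show ψ (φ ((1 : A') ⊗ₜ[A] AdjoinRoot.root _)) = 1 ⊗ₜ AdjoinRoot.root _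
      rw [Algebra.TensorProduct.lift_tmul, map_one, one_mul]
      show ψ (algebraMap (Quiet.RootRing p A a) (Quiet.RootRing p A' (algebraMap A A' a)) (AdjoinRoot.root _)) = _
      rw [hroot]
      exact AdjoinRoot.liftAlgHom_root _ _ _ _
  let e : A' ⊗[A] (Quiet.RootRing p A a) ≃ₐ[A'] (Quiet.RootRing p A' (algebraMap A A' a)) := AlgEquiv.ofAlgHom φ ψ h1 h2
  letI : Algebra (Quiet.RootRing p A a) (A' ⊗[A] (Quiet.RootRing p A a)) := Algebra.TensorProduct.rightAlgebra
  haveI : Algebra.IsPushout A A' (Quiet.RootRing p A a) (A' ⊗[A] (Quiet.RootRing p A a)) := inferInstance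
  exact Algebra.IsPushout.of_equiv e (RingHom.ext fun r => by
    show φ ((1 : A') ⊗ₜ[A] r) = algebraMap (Quiet.RootRing p A a) (Quiet.RootRing p A' (algebraMap A A' a)) r
    rw [Algebra.TensorProduct.lift_tmul, map_one, one_mul]
    rfl)

/-- Towers base change: any pushout of a tower is a tower. -/
theorem baseChange : ∀ (n : ℕ) (A A' B B' : Type u) [CommRing A] [CommRing A'] [CommRing B] [CommRing B']
    [Algebra A A'] [Algebra A B] [Algebra A' B'] [Algebra B B'] [Algebra A B'] [IsScalarTower A A' B']
    [IsScalarTower A B B'] [Algebra.IsPushout A A' B B'],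
    Quiet.IsRootTower p n A B → Quiet.IsRootTower p n A' B'
  | 0, A, A', B, B', _, _, _, _, _, _, _, _, _, _, _, _, ⟨f⟩ =>
    ⟨((Algebra.IsPushout.equiv A A' B B').symm.trans (Algebra.TensorProduct.congr AlgEquiv.refl f)).trans
      (Algebra.TensorProduct.rid A A' A')⟩
  | n + 1, A, A', B, B', _, _, _, _, _, _, _, _, _, _, _, _, ⟨a, h1, h2, h⟩ => by
    letI := h1
    haveI := h2
    let ι : (Quiet.RootRing p A a) →+* (Quiet.RootRing p A' (algebraMap A A' a)) := AdjoinRoot.map (algebraMap A A') _ _ (by simp)
    letI : Algebra (Quiet.RootRing p A a) (Quiet.RootRing p A' (algebraMap A A' a)) := ι.toAlgebra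
    haveI : IsScalarTower A (Quiet.RootRing p A a) (Quiet.RootRing p A' (algebraMap A A' a)) := IsScalarTower.of_algebraMap_eq fun r => by
      show _ = ι (AdjoinRoot.of _ r)
      rw [AdjoinRoot.map_of]
      rfl
    haveI : Algebra.IsPushout A A' (Quiet.RootRing p A a) (Quiet.RootRing p A' (algebraMap A A' a)) := rootRing_pushout A A' a (AdjoinRoot.map_root _ _ _ _)
    let χ : (Quiet.RootRing p A' (algebraMap A A' a)) →+* B' := AdjoinRoot.lift (algebraMap A' B')
      (algebraMap B B' (algebraMap (Quiet.RootRing p A a) B (AdjoinRoot.root _))) (by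
        have h0 : (AdjoinRoot.root (X ^ p - C a : A[X])) ^ p = algebraMap A (Quiet.RootRing p A a) a := by
          have := AdjoinRoot.eval₂_root (X ^ p - C a : A[X])
          simpa [sub_eq_zero, AdjoinRoot.algebraMap_eq] using this
        simp only [eval₂_sub, eval₂_X_pow, eval₂_C, sub_eq_zero, ← map_pow, h0,
          ← IsScalarTower.algebraMap_apply])
    letI : Algebra (Quiet.RootRing p A' (algebraMap A A' a)) B' := χ.toAlgebra
    haveI : IsScalarTower A' (Quiet.RootRing p A' (algebraMap A A' a)) B' := IsScalarTower.of_algebraMap_eq fun r => (AdjoinRoot.lift_of _).symm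
    haveI : IsScalarTower A (Quiet.RootRing p A' (algebraMap A A' a)) B' := IsScalarTower.of_algebraMap_eq fun r => by
      rw [IsScalarTower.algebraMap_apply A A' (Quiet.RootRing p A' (algebraMap A A' a)),
        ← IsScalarTower.algebraMap_apply A' (Quiet.RootRing p A' (algebraMap A A' a)) B',
        ← IsScalarTower.algebraMap_apply A A' B']
    letI : Algebra (Quiet.RootRing p A a) B' := ((algebraMap B B').comp (algebraMap (Quiet.RootRing p A a) B)).toAlgebra
    haveI : IsScalarTower (Quiet.RootRing p A a) B B' := IsScalarTower.of_algebraMap_eq fun _ => rfl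
    haveI : IsScalarTower (Quiet.RootRing p A a) (Quiet.RootRing p A' (algebraMap A A' a)) B' := IsScalarTower.of_algebraMap_eq' (AdjoinRoot.ringHom_ext (RingHom.ext fun r => by
      show algebraMap B B' (algebraMap (Quiet.RootRing p A a) B (algebraMap A (Quiet.RootRing p A a) r)) = χ (ι (AdjoinRoot.of _ r))
      rw [AdjoinRoot.map_of, AdjoinRoot.lift_of, ← IsScalarTower.algebraMap_apply A (Quiet.RootRing p A a) B,
        ← IsScalarTower.algebraMap_apply A B B', ← IsScalarTower.algebraMap_apply A A' B']) (by
      show algebraMap B B' (algebraMap (Quiet.RootRing p A a) B (AdjoinRoot.root _)) = χ (ι (AdjoinRoot.root _))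
      rw [AdjoinRoot.map_root, AdjoinRoot.lift_root]))
    haveI : IsScalarTower A (Quiet.RootRing p A a) B' := IsScalarTower.of_algebraMap_eq fun r => by
      show _ = algebraMap B B' (algebraMap (Quiet.RootRing p A a) B (algebraMap A (Quiet.RootRing p A a) r))
      rw [← IsScalarTower.algebraMap_apply A (Quiet.RootRing p A a) B, ← IsScalarTower.algebraMap_apply A B B']
    haveI : Algebra.IsPushout (Quiet.RootRing p A a) (Quiet.RootRing p A' (algebraMap A A' a)) B B' := by
      haveI hp : Algebra.IsPushout A (Quiet.RootRing p A a) A' (Quiet.RootRing p A' (algebraMap A A' a)) := Algebra.IsPushout.symm inferInstance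
      haveI : Algebra.IsPushout A B A' B' := Algebra.IsPushout.symm inferInstance
      exact ((Algebra.IsPushout.comp_iff A (Quiet.RootRing p A a) A' (Quiet.RootRing p A' (algebraMap A A' a)) (T := B) (T' := B')).1 inferInstance).symm
    exact ⟨algebraMap A A' a, inferInstance, inferInstance, baseChange n (Quiet.RootRing p A a) (Quiet.RootRing p A' (algebraMap A A' a)) B B' h⟩

/-- Towers are stable under isomorphism of the base. -/
theorem of_ringEquiv : ∀ (n : ℕ) (A A' E : Type u) [CommRing A] [CommRing A'] [CommRing E] [Algebra A E]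
    [Algebra A' E] (f : A ≃+* A'), (∀ x, algebraMap A' E (f x) = algebraMap A E x) →
    Quiet.IsRootTower p n A E → Quiet.IsRootTower p n A' E
  | 0, A, A', E, _, _, _, _, _, f, hf, ⟨g⟩ =>
    ⟨AlgEquiv.ofRingEquiv (f := g.toRingEquiv.trans f) (fun x => by
      obtain ⟨x, rfl⟩ := f.surjective x
      show f (g (algebraMap A' E (f x))) = f x
      rw [hf, AlgEquiv.commutes]
      rfl)⟩
  | n + 1, A, A', E, _, _, _, _, _, f, hf, ⟨a, h1, h2, h⟩ => by
    letI := h1
    haveI := h2
    let g : Quiet.RootRing p A a ≃+* Quiet.RootRing p A' (f a) :=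
      AdjoinRoot.mapRingEquiv f _ _ (by simp [Associated.refl])
    letI : Algebra (Quiet.RootRing p A' (f a)) E :=
      ((algebraMap (Quiet.RootRing p A a) E).comp g.symm.toRingHom).toAlgebra
    have hg : ∀ x, algebraMap (Quiet.RootRing p A' (f a)) E (g x) = algebraMap _ E x := fun x => by
      show algebraMap _ E (g.symm (g x)) = _
      rw [g.symm_apply_apply]
    have : IsScalarTower A' (Quiet.RootRing p A' (f a)) E := IsScalarTower.of_algebraMap_eq fun y => by
      obtain ⟨x, rfl⟩ := f.surjective y
      rw [show algebraMap A' (Quiet.RootRing p A' (f a)) (f x) = g (algebraMap A _ x) by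
        simp [g, AdjoinRoot.mapRingEquiv], hg, ← IsScalarTower.algebraMap_apply, hf]
    exact ⟨f a, inferInstance, this, of_ringEquiv n _ _ E g hg h⟩

/-- Composition of towers. -/
theorem trans : ∀ (n m : ℕ) (A B E : Type u) [CommRing A] [CommRing B] [CommRing E] [Algebra A B] [Algebra B E]
    [Algebra A E] [IsScalarTower A B E], Quiet.IsRootTower p n A B → Quiet.IsRootTower p m B E →
    Quiet.IsRootTower p (m + n) A E
  | 0, m, A, B, E, _, _, _, _, _, _, _, ⟨f⟩, h =>
    of_ringEquiv m B A E f.toRingEquiv (fun b => by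
      show algebraMap A E (f b) = _
      rw [IsScalarTower.algebraMap_apply A B E, show algebraMap A B (f b) = b from
        (f.symm.commutes (f b)).symm.trans (f.symm_apply_apply b)]) h
  | n + 1, m, A, B, E, _, _, _, _, _, _, _, ⟨a, h1, h2, h⟩, h' => by
    letI := h1
    haveI := h2
    letI : Algebra (Quiet.RootRing p A a) E := ((algebraMap B E).comp (algebraMap _ B)).toAlgebra
    haveI : IsScalarTower (Quiet.RootRing p A a) B E := IsScalarTower.of_algebraMap_eq fun _ => rfl
    haveI : IsScalarTower A (Quiet.RootRing p A a) E := IsScalarTower.of_algebraMap_eq fun r => by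
      show _ = algebraMap B E (algebraMap _ B (algebraMap A (Quiet.RootRing p A a) r))
      rw [← IsScalarTower.algebraMap_apply A (Quiet.RootRing p A a) B, ← IsScalarTower.algebraMap_apply A B E]
    exact ⟨a, inferInstance, inferInstance, trans n m _ B E h h'⟩

/-- A tower is finite free, hence flat. -/
theorem free_finite (hp : p ≠ 0) : ∀ (n : ℕ) (A B : Type u) [CommRing A] [CommRing B] [Algebra A B],
    Quiet.IsRootTower p n A B →
      Module.Free A B ∧ Module.Finite A B ∧ Function.Injective (algebraMap A B)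
  | 0, A, B, _, _, _, ⟨f⟩ => by
    refine ⟨Module.Free.of_equiv f.symm.toLinearEquiv, Module.Finite.equiv f.symm.toLinearEquiv, ?_⟩
    have : algebraMap A B = (f.symm : A → B) := funext fun x => (f.symm.commutes x).symm
    rw [this]
    exact f.symm.injective
  | n + 1, A, B, _, _, _, ⟨a, h1, h2, h⟩ => by
    letI := h1
    haveI := h2
    obtain ⟨h3, h4, h5⟩ := free_finite hp n _ B h
    haveI : Module.Free A (Quiet.RootRing p A a) := (monic_root hp a).free_adjoinRoot
    haveI : Module.Finite A (Quiet.RootRing p A a) := (monic_root hp a).finite_adjoinRoot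
    refine ⟨Module.Free.trans (R := A) (S := Quiet.RootRing p A a) (M := B),
      Module.Finite.trans (Quiet.RootRing p A a) B, ?_⟩
    rw [IsScalarTower.algebraMap_eq A (Quiet.RootRing p A a) B]
    refine h5.comp ?_
    rcases subsingleton_or_nontrivial A with hA | hA
    · exact Function.injective_of_subsingleton _
    · rw [injective_iff_map_eq_zero]
      intro x hx
      rw [AdjoinRoot.algebraMap_eq, ← AdjoinRoot.mk_C, AdjoinRoot.mk_eq_zero] at hx
      by_contra hx0
      refine Polynomial.Monic.not_dvd_of_natDegree_lt (monic_root hp a) (q := C x) ?_ ?_ hx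
      · simpa using hx0
      · simpa using Nat.pos_of_ne_zero hp

theorem add_pow_of_eq_zero [Fact p.Prime] {A : Type u} [CommRing A] (h0 : (p : A) = 0) (n : ℕ) (x y : A) :
    (x + y) ^ p ^ n = x ^ p ^ n + y ^ p ^ n := by
  rcases subsingleton_or_nontrivial A with hA | hA
  · exact Subsingleton.elim _ _
  haveI : CharP A p := (CharP.charP_iff_prime_eq_zero Fact.out).mpr h0
  exact add_pow_char_pow x y p n

/-- The `p ^ n`-th power map in characteristic `p`. -/
def powMap [Fact p.Prime] (A : Type u) [CommRing A] (h0 : (p : A) = 0) (n : ℕ) : A →+* A where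
  toFun x := x ^ p ^ n
  map_one' := one_pow _
  map_mul' x y := mul_pow x y _
  map_zero' := zero_pow (pow_ne_zero _ (Fact.out : p.Prime).ne_zero)
  map_add' := add_pow_of_eq_zero h0 n

/-- In a tower of `n` extractions every `p ^ n`-th power comes from the base. -/
theorem exists_pow [Fact p.Prime] : ∀ (n : ℕ) (A B : Type u) [CommRing A] [CommRing B] [Algebra A B],
    (p : A) = 0 → Quiet.IsRootTower p n A B → ∀ b : B, ∃ a : A, algebraMap A B a = b ^ p ^ n
  | 0, A, B, _, _, _, _, ⟨f⟩, b => ⟨f b, by
      rw [pow_zero, pow_one]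
      exact (f.symm.commutes (f b)).symm.trans (f.symm_apply_apply b)⟩
  | n + 1, A, B, _, _, _, h0, ⟨a, h1, h2, h⟩, b => by
    letI := h1
    haveI := h2
    have h0' : ((p : ℕ) : Quiet.RootRing p A a) = 0 := by
      rw [← map_natCast (algebraMap A (Quiet.RootRing p A a)), h0, map_zero]
    obtain ⟨r, hr⟩ := exists_pow n _ B h0' h b
    have key : ∀ g : A[X], ∃ c : A, algebraMap A (Quiet.RootRing p A a) c = AdjoinRoot.mk _ g ^ p := by
      intro g
      induction g using Polynomial.induction_on' with
      | add f g hf hg =>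
        obtain ⟨c, hc⟩ := hf
        obtain ⟨d, hd⟩ := hg
        refine ⟨c + d, ?_⟩
        have := add_pow_of_eq_zero h0' 1 (AdjoinRoot.mk _ f) (AdjoinRoot.mk _ g)
        rw [pow_one] at this
        rw [map_add, map_add, hc, hd, this]
      | monomial k c =>
        refine ⟨c ^ p * a ^ k, ?_⟩
        have h0a : (AdjoinRoot.root (X ^ p - C a : A[X])) ^ p = algebraMap A _ a := by
          have := AdjoinRoot.eval₂_root (X ^ p - C a : A[X])
          simpa [sub_eq_zero, AdjoinRoot.algebraMap_eq] using this
        rw [map_mul, map_pow, map_pow, ← h0a, ← C_mul_X_pow_eq_monomial, map_mul, map_pow, AdjoinRoot.mk_X,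
          AdjoinRoot.mk_C, mul_pow, ← pow_mul, ← pow_mul, mul_comm k p]
        rfl
    obtain ⟨g, rfl⟩ := AdjoinRoot.mk_surjective r
    obtain ⟨c, hc⟩ := key g
    refine ⟨c, ?_⟩
    rw [IsScalarTower.algebraMap_apply A (Quiet.RootRing p A a) B, hc, map_pow, hr, ← pow_mul, ← pow_succ]

/-- Towers lift along surjections. -/
theorem exists_lift : ∀ (n : ℕ) (A A' B' : Type u) [CommRing A] [CommRing A'] [CommRing B'] [Algebra A A']
    [Algebra A' B'] [Algebra A B'] [IsScalarTower A A' B'],
    Function.Surjective (algebraMap A A') → Quiet.IsRootTower p n A' B' →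
    ∃ (B : Type u) (_ : CommRing B) (_ : Algebra A B) (_ : Algebra B B') (_ : IsScalarTower A B B'),
      Quiet.IsRootTower p n A B ∧ Algebra.IsPushout A A' B B'
  | 0, A, A', B', _, _, _, _, _, _, _, _, ⟨f⟩ => by
    refine ⟨A, inferInstance, inferInstance, inferInstance, inferInstance, ⟨AlgEquiv.refl⟩, ?_⟩
    exact Algebra.IsPushout.of_equiv (S' := A') f.symm
      (RingHom.ext fun r => by
        show f.symm (algebraMap A A' r) = _
        exact (f.symm.commutes _).trans (IsScalarTower.algebraMap_apply A A' B' r).symm)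
  | n + 1, A, A', B', _, _, _, _, _, _, _, hs, ⟨a', h1, h2, h⟩ => by
    letI := h1
    haveI := h2
    obtain ⟨a, rfl⟩ := hs a'
    let ι : (Quiet.RootRing p A a) →+* (Quiet.RootRing p A' (algebraMap A A' a)) := AdjoinRoot.map (algebraMap A A') _ _ (by simp)
    letI : Algebra (Quiet.RootRing p A a) (Quiet.RootRing p A' (algebraMap A A' a)) := ι.toAlgebra
    haveI : IsScalarTower A (Quiet.RootRing p A a) (Quiet.RootRing p A' (algebraMap A A' a)) := IsScalarTower.of_algebraMap_eq fun r => by
      show _ = ι (AdjoinRoot.of _ r)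
      rw [AdjoinRoot.map_of]
      rfl
    have hιs : Function.Surjective (algebraMap (Quiet.RootRing p A a) (Quiet.RootRing p A' (algebraMap A A' a))) := fun z => by
      obtain ⟨g, rfl⟩ := AdjoinRoot.mk_surjective z
      obtain ⟨g₀, rfl⟩ := Polynomial.map_surjective _ hs g
      refine ⟨AdjoinRoot.mk _ g₀, ?_⟩
      show ι (AdjoinRoot.mk _ g₀) = _
      simp only [ι, AdjoinRoot.map, AdjoinRoot.lift_mk, ← Polynomial.eval₂_map]
      exact AdjoinRoot.aeval_eq _
    haveI hp : Algebra.IsPushout A A' (Quiet.RootRing p A a) (Quiet.RootRing p A' (algebraMap A A' a)) := rootRing_pushout A A' a (AdjoinRoot.map_root _ _ _ _)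
    haveI : IsScalarTower A (Quiet.RootRing p A' (algebraMap A A' a)) B' := IsScalarTower.of_algebraMap_eq fun r => by
      rw [IsScalarTower.algebraMap_apply A A' (Quiet.RootRing p A' (algebraMap A A' a)),
        ← IsScalarTower.algebraMap_apply A' (Quiet.RootRing p A' (algebraMap A A' a)) B',
        ← IsScalarTower.algebraMap_apply A A' B']
    letI : Algebra (Quiet.RootRing p A a) B' := ((algebraMap (Quiet.RootRing p A' (algebraMap A A' a)) B').comp ι).toAlgebra
    haveI : IsScalarTower (Quiet.RootRing p A a) (Quiet.RootRing p A' (algebraMap A A' a)) B' := IsScalarTower.of_algebraMap_eq fun _ => rfl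
    haveI : IsScalarTower A (Quiet.RootRing p A a) B' := IsScalarTower.of_algebraMap_eq fun r => by
      show _ = algebraMap (Quiet.RootRing p A' (algebraMap A A' a)) B' (algebraMap (Quiet.RootRing p A a) (Quiet.RootRing p A' (algebraMap A A' a)) (algebraMap A (Quiet.RootRing p A a) r))
      rw [← IsScalarTower.algebraMap_apply A (Quiet.RootRing p A a) (Quiet.RootRing p A' (algebraMap A A' a)), IsScalarTower.algebraMap_apply A A' (Quiet.RootRing p A' (algebraMap A A' a)),
        ← IsScalarTower.algebraMap_apply A' (Quiet.RootRing p A' (algebraMap A A' a)) B', ← IsScalarTower.algebraMap_apply A A' B']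
    obtain ⟨B, _, _, _, _, hB, hpo⟩ := exists_lift n (Quiet.RootRing p A a) (Quiet.RootRing p A' (algebraMap A A' a)) B' hιs h
    letI : Algebra A B := ((algebraMap (Quiet.RootRing p A a) B).comp (algebraMap A (Quiet.RootRing p A a))).toAlgebra
    haveI : IsScalarTower A (Quiet.RootRing p A a) B := IsScalarTower.of_algebraMap_eq fun _ => rfl
    haveI : IsScalarTower A B B' := IsScalarTower.of_algebraMap_eq fun r => by
      show _ = algebraMap B B' (algebraMap (Quiet.RootRing p A a) B (algebraMap A (Quiet.RootRing p A a) r))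
      rw [← IsScalarTower.algebraMap_apply (Quiet.RootRing p A a) B B', ← IsScalarTower.algebraMap_apply A (Quiet.RootRing p A a) B']
    refine ⟨B, inferInstance, inferInstance, inferInstance, inferInstance, ⟨a, inferInstance, inferInstance, hB⟩, ?_⟩
    haveI : Algebra.IsPushout A (Quiet.RootRing p A a) A' (Quiet.RootRing p A' (algebraMap A A' a)) := hp.symm
    haveI : Algebra.IsPushout (Quiet.RootRing p A a) B (Quiet.RootRing p A' (algebraMap A A' a)) B' := hpo.symm
    exact ((Algebra.IsPushout.comp_iff A (Quiet.RootRing p A a) A' (Quiet.RootRing p A' (algebraMap A A' a)) (T := B) (T' := B')).2 inferInstance).symm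

end GrothLib.RootTower4
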