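import Groth.Prelude.Def_W4c2gaugesfzipsQuiet
import Groth.Agent.Lib.Frob16.Flat
import Mathlib

/-! # Root towers and the absolute Frobenius of smooth algebras over perfect fields -/

set_option autoImplicit false

universe u

open TensorProduct MvPolynomial

namespace GrothLib.RootTower4

theorem isRootTower_of_bijective (p : ℕ) [Fact p.Prime] :
    ∀ (n : ℕ) (A B : Type u) [CommRing A] [CommRing B] [Algebra A B] (a : Fin n → A) (y : Fin n → B),
      (∀ i, y i ^ p = algebraMap A B (a i)) →
      Function.Bijective (fun c : (Fin n → Fin p) → A => ∑ e, algebraMap A B (c e) * ∏ i, y i ^ (e i : ℕ)) →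
      Quiet.IsRootTower p n A B
  | 0, A, B, _, _, _, a, y, _, hb => by
    have : Function.Bijective (algebraMap A B) := by
      have h := hb.comp (Equiv.funUnique (Fin 0 → Fin p) A).symm.bijective
      convert h using 1
      funext x
      simp
    exact ⟨(AlgEquiv.ofBijective (Algebra.ofId A B) this).symm⟩
  | n + 1, A, B, _, _, _, a, y, hy, hb => by
    classical
    let f : AdjoinRoot (Polynomial.X ^ p - Polynomial.C (a 0) : Polynomial A) →ₐ[A] B :=
      AdjoinRoot.liftAlgHom _ (Algebra.ofId A B) (y 0) (by
        simp [Polynomial.eval₂_sub, hy 0, Algebra.ofId_apply])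
    letI : Algebra (Quiet.RootRing p A (a 0)) B := f.toRingHom.toAlgebra
    haveI : IsScalarTower A (Quiet.RootRing p A (a 0)) B :=
      IsScalarTower.of_algebraMap_eq fun r => (f.commutes r).symm
    refine ⟨a 0, inferInstance, inferInstance, isRootTower_of_bijective p n _ B
      (fun i => algebraMap A _ (a i.succ)) (fun i => y i.succ) (fun i => ?_) ?_⟩
    · rw [hy, ← IsScalarTower.algebraMap_apply]
    have hmon : (Polynomial.X ^ p - Polynomial.C (a 0) : Polynomial A).Monic :=
      Polynomial.monic_X_pow_sub_C _ (Fact.out : p.Prime).ne_zero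
    rcases subsingleton_or_nontrivial A with hA | hA
    · haveI : Subsingleton B := (algebraMap A B).codomain_trivial
      haveI : Subsingleton (Quiet.RootRing p A (a 0)) := (algebraMap A _).codomain_trivial
      exact ⟨Function.injective_of_subsingleton _, fun z => ⟨0, Subsingleton.elim _ _⟩⟩
    have hdeg : (Polynomial.X ^ p - Polynomial.C (a 0) : Polynomial A).natDegree = p :=
      Polynomial.natDegree_X_pow_sub_C
    let bas : Module.Basis (Fin p) A (Quiet.RootRing p A (a 0)) :=
      (AdjoinRoot.powerBasis' hmon).basis.reindex (finCongr (by simp [hdeg]))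
    have hbas : ∀ j, bas j = AdjoinRoot.root _ ^ (j : ℕ) := fun j => by simp [bas]
    let ξ : ((Fin n → Fin p) → Fin p → A) → ((Fin n → Fin p) → Quiet.RootRing p A (a 0)) :=
      fun d e => bas.equivFun.symm (d e)
    have hξ : Function.Bijective ξ := Function.Bijective.piMap fun _ => bas.equivFun.symm.bijective
    let θ : ((Fin (n + 1) → Fin p) → A) ≃ ((Fin n → Fin p) → Fin p → A) :=
      { toFun := fun c e j => c (Fin.cons j e)
        invFun := fun d e => d (Fin.tail e) (e 0)
        left_inv := fun c => funext fun e => by simp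
        right_inv := fun d => funext fun e => funext fun j => by simp }
    refine (Function.Bijective.of_comp_iff _ (hξ.comp θ.bijective)).1 ?_
    convert hb using 1
    funext c
    rw [← (Fin.consEquiv fun _ => Fin p).sum_comp, Fintype.sum_prod_type, Finset.sum_comm]
    refine Finset.sum_congr rfl fun e _ => ?_
    show f (bas.equivFun.symm fun j => c (Fin.cons j e)) * _ = _
    rw [Module.Basis.equivFun_symm_apply, map_sum, Finset.sum_mul]
    refine Finset.sum_congr rfl fun j _ => ?_
    rw [map_smul, hbas, map_pow, Algebra.smul_def]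
    simp [f, Fin.prod_univ_succ, mul_assoc, Fin.consEquiv]

section Frobenius

open GrothLib.Frob16

variable (p : ℕ) [hp : Fact p.Prime] {k : Type u} [Field k] [CharP k p] [PerfectRing k p]
  (r : ℕ) (C : Type u) [CommRing C] [CharP C p] [Algebra k C] [Algebra (MvPolynomial (Fin r) k) C]
  [IsScalarTower k (MvPolynomial (Fin r) k) C] [Algebra.Etale (MvPolynomial (Fin r) k) C]

local notation "P" => MvPolynomial (Fin r) k

theorem bijective_frobenius_comb :
    Function.Bijective fun c : (Fin r → Fin p) → C =>
      ∑ e, c e ^ p * ∏ i, algebraMap P C (X i) ^ (e i : ℕ) := by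
  classical
  let L : C ⊗[P] ((Fin r → Fin p) → FrobAlg.BaseChange p k P) ≃ₗ[P] C ⊗[P] FrobAlg.Twist p P :=
    (LinearEquiv.ofBijective (phiPolyLin p (A := k) r)
      ((FrobAlg.toTwist p P).bijective.comp (bijective_phiPoly p r))).lTensor C
  let Q := TensorProduct.piRight P P C (fun _ : Fin r → Fin p => FrobAlg.BaseChange p k P)
  let cn := TensorProduct.AlgebraTensorModule.cancelBaseChange k P P C (FrobAlg.Twist p k)
  have hcn : ∀ (b : C) (y : FrobAlg.BaseChange p k P), FrobAlg.relFrob p k C (cn (b ⊗ₜ y)) =
      b ^ p * algebraMap P C (FrobAlg.relFrob p k P y) := fun b y => by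
    induction y using TensorProduct.induction_on with
    | zero => simp
    | add x y hx hy => simp only [tmul_add, map_add, hx, hy, mul_add]
    | tmul f t =>
      rw [TensorProduct.AlgebraTensorModule.cancelBaseChange_tmul, relFrob_tmul, relFrob_tmul, map_mul,
        map_pow, ← IsScalarTower.algebraMap_apply k P C, Algebra.smul_def, mul_pow]
      ring
  let v : (Fin r → Fin p) → C := fun e => algebraMap P C (monomial (expVec p e) 1)
  have key : ∀ x, FrobAlg.relFrob p P C (L x) = ∑ e, FrobAlg.relFrob p k C (cn (Q x e)) * v e := fun x => by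
    induction x using TensorProduct.induction_on with
    | zero => simp
    | add x y hx hy => simp only [map_add, Pi.add_apply, hx, hy, add_mul, Finset.sum_add_distrib]
    | tmul b c =>
      change FrobAlg.relFrob p P C (b ⊗ₜ FrobAlg.toTwist p P (phiPoly p r c)) = _
      rw [relFrob_tmul, RingEquiv.symm_apply_apply, phiPoly, map_sum, Finset.mul_sum]
      refine Finset.sum_congr rfl fun e _ => ?_
      rw [show Q (b ⊗ₜ c) e = b ⊗ₜ c e by simp [Q], hcn, map_mul, mul_assoc]
  have hι : Function.Bijective (fun b : C => (b ⊗ₜ[k] (1 : FrobAlg.Twist p k) : FrobAlg.BaseChange p k C)) := by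
    have hF : Function.Bijective (algebraMap k (FrobAlg.Twist p k)) :=
      (FrobAlg.toTwist p k).bijective.comp (bijective_frobenius k p)
    let e := (AlgEquiv.ofBijective (Algebra.ofId k (FrobAlg.Twist p k)) hF)
    convert ((Algebra.TensorProduct.rid k k C).symm.trans
      (Algebra.TensorProduct.congr AlgEquiv.refl e)).bijective using 1
    funext b
    simp [e]
  let ε : ((Fin r → Fin p) → C) → C ⊗[P] ((Fin r → Fin p) → FrobAlg.BaseChange p k P) :=
    fun c => Q.symm fun e => cn.symm (c e ⊗ₜ 1)
  have hε : Function.Bijective ε :=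
    Q.symm.bijective.comp (Function.Bijective.piMap fun _ => cn.symm.bijective.comp hι)
  have hall := ((bijective_relFrob p P C).comp L.bijective).comp hε
  convert hall using 1
  funext c
  simp only [Function.comp_apply, key, ε, LinearEquiv.apply_symm_apply, relFrob_tmul, map_one, mul_one]
  refine Finset.sum_congr rfl fun e _ => ?_
  congr 1
  simp [v, monomial_eq, Finsupp.prod_fintype, expVec_apply]

end Frobenius

end GrothLib.RootTower4
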