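import Groth.Agent.Lib.RootTower4.Algebra
import Groth.Agent.Lib.Frob.RelBij
import Mathlib

/-! # Étale algebras descend along towers of `p`-th root extractions -/

set_option autoImplicit false
set_option linter.style.haveILetI false
set_option backward.isDefEq.respectTransparency false

universe u v

open TensorProduct

namespace GrothLib.RootTower4

/-- An étale algebra all of whose `p`-th powers come from the base, in characteristic `p`, with
nilpotent kernel, is equal to the base. -/
theorem bijective_of_etale_of_ppow {R : Type u} {S : Type v} [CommRing R] [CommRing S] [Algebra R S]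
    [Algebra.Etale R S] (p n : ℕ) [Fact p.Prime] (h0 : (p : S) = 0)
    (hpow : ∀ s : S, ∃ r : R, algebraMap R S r = s ^ p ^ n)
    (hker : ∀ r : R, algebraMap R S r = 0 → IsNilpotent r) :
    Function.Bijective (algebraMap R S) := by
  have hp := (Fact.out : p.Prime).ne_zero
  haveI : Algebra.IsIntegral R S := ⟨fun s => by
    obtain ⟨r, hr⟩ := hpow s
    exact IsIntegral.of_pow (Nat.pos_of_ne_zero (pow_ne_zero n hp)) (hr ▸ isIntegral_algebraMap)⟩
  haveI : Module.Finite R S := Algebra.IsIntegral.finite
  have key : ∀ s : S, (1 : S) ⊗ₜ[R] s = s ⊗ₜ[R] (1 : S) := by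
    rcases subsingleton_or_nontrivial (S ⊗[R] S) with h | h
    · exact fun s => Subsingleton.elim _ _
    haveI : CharP (S ⊗[R] S) p := (CharP.charP_iff_prime_eq_zero Fact.out).mpr (by
      rw [← map_natCast (algebraMap S (S ⊗[R] S)), h0, map_zero])
    let e := Algebra.FormallyUnramified.elem R S
    have hnil : ∀ x : S ⊗[R] S, x - (Algebra.TensorProduct.lmul' R x) ⊗ₜ[R] (1 : S) ∈ nilradical (S ⊗[R] S) := by
      intro x
      induction x using TensorProduct.induction_on with
      | zero => simp
      | add x y hx hy =>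
        rw [map_add, add_tmul, add_sub_add_comm]
        exact add_mem hx hy
      | tmul a b =>
        rw [Algebra.TensorProduct.lmul'_apply_tmul, show a ⊗ₜ[R] b - (a * b) ⊗ₜ[R] (1 : S) =
          (a ⊗ₜ[R] (1 : S)) * ((1 : S) ⊗ₜ[R] b - b ⊗ₜ[R] (1 : S)) by
            rw [mul_sub, Algebra.TensorProduct.tmul_mul_tmul, Algebra.TensorProduct.tmul_mul_tmul]; simp]
        refine Ideal.mul_mem_left _ _ (mem_nilradical.2 ⟨p ^ n, ?_⟩)
        obtain ⟨r, hr⟩ := hpow b
        rw [sub_pow_char_pow, Algebra.TensorProduct.tmul_pow, Algebra.TensorProduct.tmul_pow, one_pow, ← hr,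
          Algebra.algebraMap_eq_smul_one, TensorProduct.smul_tmul, sub_self]
    have he : IsUnit e := by
      have h1 := hnil e
      rw [Algebra.FormallyUnramified.lmul_elem, ← Algebra.TensorProduct.one_def, mem_nilradical] at h1
      simpa using h1.isUnit_one_add
    intro s
    refine he.mul_right_cancel ?_
    exact Algebra.FormallyUnramified.one_tmul_mul_elem (R := R) s
  have hsurj : Function.Surjective (algebraMap R S) :=
    Algebra.isEpi_iff_surjective_algebraMap_of_finite.1 ((Algebra.isEpi_iff_forall_one_tmul_eq R S).2 key)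
  refine ⟨?_, hsurj⟩
  rw [injective_iff_map_eq_zero]
  intro r hr
  have h : ∑ i : Fin 1, (fun _ => r) i • (fun _ => (1 : S)) i = 0 := by
    simp [← Algebra.algebraMap_eq_smul_one, hr]
  obtain ⟨κ, a, y, hy, hay⟩ := (Module.Flat.iff_forall_isTrivialRelation (R := R) (M := S)).1 inferInstance h
  choose t ht using fun j => hsurj (y j)
  -- `1 = ∑ a_j t_j` up to a nilpotent, and each `a_j` annihilates `r`
  have h1 : algebraMap R S (1 - ∑ j, a 0 j * t j) = 0 := by
    rw [map_sub, map_one, map_sum, sub_eq_zero]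
    refine (hy 0).trans (Finset.sum_congr rfl fun j _ => ?_)
    rw [map_mul, ht, Algebra.smul_def]
  obtain ⟨m, hm⟩ := hker _ h1
  have hr0 : r * (∑ j, a 0 j * t j) = 0 := by
    rw [Finset.mul_sum]
    refine Finset.sum_eq_zero fun j _ => ?_
    have := hay j
    simp only [Fin.sum_univ_one] at this
    rw [← mul_assoc, this, zero_mul]
  have : ∀ n, r * (1 - ∑ j, a 0 j * t j) ^ n = r := fun n => by
    induction n with
    | zero => simp
    | succ n ih => rw [pow_succ, ← mul_assoc, ih, mul_sub, hr0, sub_zero, mul_one]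
  rw [← this m, hm, mul_zero]

theorem exists_tensor_lift {B A E T : Type u} [CommRing B] [CommRing A] [CommRing E] [CommRing T] [Algebra B A]
    [Algebra B E] (f : A →+* T) (g : E →+* T) (h : f.comp (algebraMap B A) = g.comp (algebraMap B E)) :
    ∃ l : A ⊗[B] E →+* T, ∀ a e, l (a ⊗ₜ e) = f a * g e := by
  letI : Algebra B T := (f.comp (algebraMap B A)).toAlgebra
  let fa : A →ₐ[B] T := { f with commutes' := fun _ => rfl }
  let ga : E →ₐ[B] T := { g with commutes' := fun b => (congrArg (fun r => r b) h).symm }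
  exact ⟨(Algebra.TensorProduct.lift fa ga fun _ _ => Commute.all _ _).toRingHom,
    fun a e => Algebra.TensorProduct.lift_tmul _ _ _ a e⟩

/-- An étale algebra over the top of a tower comes from an étale algebra over the bottom. -/
theorem exists_etale_descent {p : ℕ} [Fact p.Prime] (n : ℕ) (A B E : Type u) [CommRing A] [CommRing B]
    [CommRing E] [Algebra A B] [Algebra B E] [Algebra A E] [IsScalarTower A B E] (h0 : (p : A) = 0)
    (hT : Quiet.IsRootTower p n A B) [Algebra.Etale B E] :
    ∃ (E₀ : Type u) (_ : CommRing E₀) (_ : Algebra A E₀) (_ : Algebra E₀ E) (_ : IsScalarTower A E₀ E),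
      Algebra.Etale A E₀ ∧ Algebra.IsPushout A B E₀ E := by
  have hp := (Fact.out : p.Prime).ne_zero
  obtain ⟨-, -, hinj⟩ := free_finite hp n A B hT
  choose φ0 hφ0 using exists_pow n A B h0 hT
  have hB0 : (p : B) = 0 := by rw [← map_natCast (algebraMap A B), h0, map_zero]
  have hE0 : (p : E) = 0 := by rw [← map_natCast (algebraMap A E), h0, map_zero]
  let φ : B →+* A :=
    { toFun := φ0
      map_one' := hinj (by rw [hφ0, one_pow, map_one])
      map_mul' := fun x y => hinj (by rw [map_mul, hφ0, hφ0, hφ0, mul_pow])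
      map_zero' := hinj (by rw [hφ0, zero_pow (pow_ne_zero n hp), map_zero])
      map_add' := fun x y => hinj (by rw [map_add, hφ0, hφ0, hφ0, add_pow_of_eq_zero hB0]) }
  have hφ : ∀ b, algebraMap A B (φ b) = b ^ p ^ n := hφ0
  have hφA : ∀ a, φ (algebraMap A B a) = a ^ p ^ n := fun a => hinj (by rw [hφ, map_pow])
  letI : Algebra B A := φ.toAlgebra
  let E₀ := A ⊗[B] E
  obtain ⟨l, hl⟩ := exists_tensor_lift (algebraMap A E) (powMap E hE0 n) (RingHom.ext fun b => by
    show algebraMap A E (φ b) = (algebraMap B E b) ^ p ^ n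
    rw [IsScalarTower.algebraMap_apply A B E, hφ, map_pow])
  have hl' : ∀ a e, l (a ⊗ₜ e) = algebraMap A E a * e ^ p ^ n := hl
  letI : Algebra E₀ E := l.toAlgebra
  haveI : IsScalarTower A E₀ E := IsScalarTower.of_algebraMap_eq fun a => by
    show _ = l (a ⊗ₜ (1 : E))
    rw [hl', one_pow, mul_one]
  refine ⟨E₀, inferInstance, inferInstance, inferInstance, inferInstance, inferInstance, ?_⟩
  let ρ : B ⊗[A] E₀ →ₐ[B] E :=
    Algebra.TensorProduct.lift (Algebra.ofId B E) (IsScalarTower.toAlgHom A E₀ E) fun _ _ => Commute.all _ _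
  have hρ : ∀ (b : B) (a : A) (e : E), ρ (b ⊗ₜ (a ⊗ₜ e)) = algebraMap B E b * (algebraMap A E a * e ^ p ^ n) :=
    fun b a e => by
      show Algebra.TensorProduct.lift _ _ _ (b ⊗ₜ[A] (a ⊗ₜ[B] e)) = _
      rw [Algebra.TensorProduct.lift_tmul]
      exact congrArg _ (hl' a e)
  have het : ρ.toRingHom.Etale := by
    refine GrothLib.Frob.etale_of_comp (f := algebraMap B (B ⊗[A] E₀)) ?_ ?_
    · rw [RingHom.etale_algebraMap]; infer_instance
    · rw [show ρ.toRingHom.comp (algebraMap B (B ⊗[A] E₀)) = algebraMap B E from ρ.comp_algebraMap,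
        RingHom.etale_algebraMap]
      infer_instance
  have hbij : Function.Bijective ρ := by
    letI : Algebra (B ⊗[A] E₀) E := ρ.toRingHom.toAlgebra
    haveI : Algebra.Etale (B ⊗[A] E₀) E := het
    refine bijective_of_etale_of_ppow (R := B ⊗[A] E₀) (S := E) p n hE0 (fun e => ?_) (fun x hx => ?_)
    · refine ⟨(1 : B) ⊗ₜ[A] ((1 : A) ⊗ₜ[B] e), ?_⟩
      show ρ _ = _
      rw [hρ, map_one, map_one, one_mul, one_mul]
    · have hT0 : (p : B ⊗[A] E₀) = 0 := by rw [← map_natCast (algebraMap B (B ⊗[A] E₀)), hB0, map_zero]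
      have hE₀0 : (p : E₀) = 0 := by rw [← map_natCast (algebraMap A E₀), h0, map_zero]
      have key : ∀ x : B ⊗[A] E₀, x ^ p ^ n = (1 : B) ⊗ₜ[A] ((1 : A) ⊗ₜ[B] ρ x) := by
        intro x
        induction x using TensorProduct.induction_on with
        | zero => simp [zero_pow (pow_ne_zero n hp)]
        | add x y hx hy => rw [add_pow_of_eq_zero hT0, hx, hy, map_add, tmul_add, tmul_add]
        | tmul b w =>
          induction w using TensorProduct.induction_on with
          | zero => simp [zero_pow (pow_ne_zero n hp)]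
          | add x y hx hy =>
            rw [tmul_add, add_pow_of_eq_zero hT0, hx, hy, map_add, tmul_add, tmul_add]
          | tmul a e =>
            rw [Algebra.TensorProduct.tmul_pow, Algebra.TensorProduct.tmul_pow, hρ, ← mul_assoc,
              IsScalarTower.algebraMap_apply A B E, ← map_mul, ← Algebra.smul_def, ← hφ,
              Algebra.algebraMap_eq_smul_one, TensorProduct.smul_tmul]
            congr 1
            rw [← TensorProduct.smul_tmul, TensorProduct.smul_tmul']
            congr 1
            show φ b * a ^ p ^ n = φ (b * algebraMap A B a) * 1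
            rw [map_mul, hφA, mul_one]
      refine ⟨p ^ n, ?_⟩
      rw [key x, show ρ x = 0 from hx, tmul_zero, tmul_zero]
  letI : Algebra E₀ (B ⊗[A] E₀) := Algebra.TensorProduct.rightAlgebra
  exact Algebra.IsPushout.of_equiv (S' := B ⊗[A] E₀) (h := inferInstance) (AlgEquiv.ofBijective ρ hbij)
    (RingHom.ext fun w => by
      show ρ ((1 : B) ⊗ₜ[A] w) = algebraMap E₀ E w
      simp [ρ])

end GrothLib.RootTower4
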