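import Groth.Agent.Lib.RootTower4.Etale
import Groth.Prelude.Def_Frob
import Mathlib

/-! # Quasi-étale morphisms: affine charts -/

set_option autoImplicit false
set_option linter.style.haveILetI false
set_option backward.isDefEq.respectTransparency false

universe u

open CategoryTheory Limits AlgebraicGeometry TensorProduct

namespace GrothLib.RootTower4

/-- A ring map which is étale followed by a tower of root extractions. -/
def QuietHom (p : ℕ) {A C : Type u} [CommRing A] [CommRing C] (φ : A →+* C) : Prop :=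
  ∃ (n : ℕ) (B : Type u) (_ : CommRing B) (φ₁ : A →+* B) (φ₂ : B →+* C),
    φ₂.comp φ₁ = φ ∧ φ₁.Etale ∧ (letI := φ₂.toAlgebra; Quiet.IsRootTower p n B C)

theorem tower_of_iso {p n : ℕ} {A A' B B' : Type u} [CommRing A] [CommRing A'] [CommRing B] [CommRing B']
    (φ : A →+* B) (φ' : A' →+* B') (a : A ≃+* A') (b : B ≃+* B') (hc : ∀ x, φ' (a x) = b (φ x))
    (h : letI := φ.toAlgebra; Quiet.IsRootTower p n A B) : letI := φ'.toAlgebra; Quiet.IsRootTower p n A' B' := by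
  letI := φ.toAlgebra
  letI := φ'.toAlgebra
  letI : Algebra A B' := (b.toRingHom.comp φ).toAlgebra
  exact of_ringEquiv n A A' B' a hc (of_algEquiv n A B B' { b with commutes' := fun _ => rfl } h)

variable {p : ℕ}

theorem QuietHom.comp [Fact p.Prime] {A C E : Type u} [CommRing A] [CommRing C] [CommRing E]
    {φ : A →+* C} {ψ : C →+* E} (h0 : (p : A) = 0) (hφ : QuietHom p φ) (hψ : QuietHom p ψ) :
    QuietHom p (ψ.comp φ) := by
  obtain ⟨n, B, _, φ₁, φ₂, rfl, hφ₁, hφ₂⟩ := hφ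
  obtain ⟨m, D, _, ψ₁, ψ₂, rfl, hψ₁, hψ₂⟩ := hψ
  letI := φ₂.toAlgebra
  letI := ψ₁.toAlgebra
  letI := ψ₂.toAlgebra
  letI : Algebra B D := (ψ₁.comp φ₂).toAlgebra
  haveI : IsScalarTower B C D := IsScalarTower.of_algebraMap_eq fun _ => rfl
  haveI : Algebra.Etale C D := hψ₁
  have hB0 : (p : B) = 0 := by rw [← map_natCast φ₁, h0, map_zero]
  obtain ⟨D₀, _, _, _, _, hD₀, hpo⟩ := exists_etale_descent n B C D hB0 hφ₂
  haveI : Algebra.IsPushout B D₀ C D := hpo.symm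
  have h2 : Quiet.IsRootTower p n D₀ D := baseChange n B D₀ C D hφ₂
  letI : Algebra D₀ E := (ψ₂.comp (algebraMap D₀ D)).toAlgebra
  haveI : IsScalarTower D₀ D E := IsScalarTower.of_algebraMap_eq fun _ => rfl
  refine ⟨m + n, D₀, inferInstance, (algebraMap B D₀).comp φ₁, algebraMap D₀ E, RingHom.ext fun x => ?_,
    RingHom.Etale.stableUnderComposition φ₁ (algebraMap B D₀) hφ₁ (RingHom.etale_algebraMap.2 hD₀), ?_⟩
  · show ψ₂ (algebraMap D₀ D (algebraMap B D₀ (φ₁ x))) = ψ₂ (ψ₁ (φ₂ (φ₁ x)))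
    rw [← IsScalarTower.algebraMap_apply B D₀ D]
    rfl
  · convert trans n m D₀ D E h2 hψ₂

theorem QuietHom.baseChange {A C A' : Type u} [CommRing A] [CommRing C] [CommRing A'] [Algebra A C]
    [Algebra A A'] (h : QuietHom p (algebraMap A C)) :
    QuietHom p (algebraMap A' (A' ⊗[A] C)) := by
  obtain ⟨n, B, _, φ₁, φ₂, hφ, hφ₁, hφ₂⟩ := h
  letI := φ₁.toAlgebra
  letI := φ₂.toAlgebra
  haveI : IsScalarTower A B C := IsScalarTower.of_algebraMap_eq' hφ.symm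
  haveI : Algebra.Etale A B := hφ₁
  let ι : A' ⊗[A] B →ₐ[A'] A' ⊗[A] C := Algebra.TensorProduct.map (AlgHom.id A' A') (IsScalarTower.toAlgHom A B C)
  refine ⟨n, A' ⊗[A] B, inferInstance, algebraMap A' (A' ⊗[A] B), ι.toRingHom, ι.comp_algebraMap,
    RingHom.etale_algebraMap.2 inferInstance, ?_⟩
  letI : Algebra (A' ⊗[A] B) (A' ⊗[A] C) := ι.toRingHom.toAlgebra
  haveI : IsScalarTower A' (A' ⊗[A] B) (A' ⊗[A] C) := IsScalarTower.of_algebraMap_eq' ι.comp_algebraMap.symm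
  letI : Algebra C (A' ⊗[A] C) := Algebra.TensorProduct.rightAlgebra
  letI : Algebra B (A' ⊗[A] B) := Algebra.TensorProduct.rightAlgebra
  letI : Algebra B (A' ⊗[A] C) := ((algebraMap C (A' ⊗[A] C)).comp (algebraMap B C)).toAlgebra
  haveI : IsScalarTower B C (A' ⊗[A] C) := IsScalarTower.of_algebraMap_eq fun _ => rfl
  haveI : IsScalarTower B (A' ⊗[A] B) (A' ⊗[A] C) := IsScalarTower.of_algebraMap_eq fun b => by
    show _ = ι ((1 : A') ⊗ₜ[A] b)
    simp only [ι, Algebra.TensorProduct.map_tmul, map_one]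
    rfl
  haveI : IsScalarTower A B (A' ⊗[A] C) := IsScalarTower.of_algebraMap_eq fun a => by
    show _ = algebraMap C (A' ⊗[A] C) (algebraMap B C (algebraMap A B a))
    rw [← IsScalarTower.algebraMap_apply A B C, ← IsScalarTower.algebraMap_apply A C (A' ⊗[A] C)]
  haveI : IsScalarTower A (A' ⊗[A] B) (A' ⊗[A] C) := IsScalarTower.of_algebraMap_eq fun a => by
    rw [IsScalarTower.algebraMap_apply A A' (A' ⊗[A] B), ← IsScalarTower.algebraMap_apply A' (A' ⊗[A] B) (A' ⊗[A] C),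
      ← IsScalarTower.algebraMap_apply A A' (A' ⊗[A] C)]
  haveI : Algebra.IsPushout A B A' (A' ⊗[A] B) := Algebra.IsPushout.symm inferInstance
  haveI : Algebra.IsPushout A C A' (A' ⊗[A] C) := Algebra.IsPushout.symm inferInstance
  haveI : Algebra.IsPushout B (A' ⊗[A] B) C (A' ⊗[A] C) :=
    ((Algebra.IsPushout.comp_iff A B A' (A' ⊗[A] B) (T := C) (T' := A' ⊗[A] C)).1 inferInstance).symm
  exact GrothLib.RootTower4.baseChange n B (A' ⊗[A] B) C (A' ⊗[A] C) hφ₂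

theorem isQuiet_of_charts {X Y : Scheme.{u}} (f : Y ⟶ X)
    (h : ∀ y : Y, ∃ (A C : CommRingCat.{u}) (φ : A ⟶ C) (j : Spec C ⟶ Y) (i : Spec A ⟶ X),
      IsOpenImmersion j ∧ IsOpenImmersion i ∧ y ∈ Set.range j ∧ j ≫ f = Spec.map φ ≫ i ∧ QuietHom p φ.hom) :
    Quiet.IsQuiet p f := by
  intro y
  obtain ⟨A, C, φ, j, i, hj, hi, hy, hsq, n, B, _, φ₁, φ₂, hφ, hφ₁, hφ₂⟩ := h y
  let r : (j.opensRange : Scheme.{u}) ⟶ Spec (CommRingCat.of B) :=
    j.isoOpensRange.inv ≫ Spec.map (CommRingCat.ofHom φ₂)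
  refine ⟨j.opensRange, Spec (CommRingCat.of B), r, Spec.map (CommRingCat.ofHom φ₁) ≫ i, hy, ?_, ?_, ?_⟩
  · intro x
    have haff : IsAffine (j.opensRange : Scheme.{u}) := IsAffine.of_isIso j.isoOpensRange.inv
    refine ⟨⟨⊤, isAffineOpen_top _⟩, trivial, ?_, n, ?_⟩
    · show IsAffineOpen (r ⁻¹ᵁ ⊤)
      rw [Scheme.Hom.preimage_top]
      exact isAffineOpen_top _
    · refine tower_of_iso φ₂ (r.app ⊤).hom (Scheme.ΓSpecIso (CommRingCat.of B)).symm.commRingCatIsoToRingEquiv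
        ((Scheme.ΓSpecIso C).symm ≪≫ asIso j.isoOpensRange.inv.appTop).commRingCatIsoToRingEquiv
        (fun z => ?_) hφ₂
      show (((Scheme.ΓSpecIso (CommRingCat.of B)).inv ≫ r.appTop).hom z) =
        ((CommRingCat.ofHom φ₂ ≫ (Scheme.ΓSpecIso C).inv ≫ j.isoOpensRange.inv.appTop).hom z)
      rw [Scheme.Hom.comp_appTop, ← Category.assoc, ← Scheme.ΓSpecIso_inv_naturality, Category.assoc]
  · haveI : Etale (Spec.map (CommRingCat.ofHom φ₁)) := by
      rw [HasRingHomProperty.Spec_iff (P := @Etale)]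
      exact hφ₁
    infer_instance
  · rw [show j.opensRange.ι ≫ f = j.isoOpensRange.inv ≫ j ≫ f by
      rw [← Category.assoc, j.isoOpensRange_inv_comp], hsq, show φ = CommRingCat.ofHom φ₁ ≫ CommRingCat.ofHom φ₂ from
        CommRingCat.hom_ext hφ.symm, Spec.map_comp]
    simp only [r, Category.assoc]

theorem exists_localized [Fact p.Prime] {n : ℕ} {B₀ C₀ : Type u} [CommRing B₀] [CommRing C₀] [Algebra B₀ C₀]
    (h0 : (p : B₀) = 0) (hT : Quiet.IsRootTower p n B₀ C₀) (c : C₀) :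
    ∃ (B C : CommRingCat.{u}) (ιB : CommRingCat.of B₀ ⟶ B) (ιC : CommRingCat.of C₀ ⟶ C) (ψ : B ⟶ C),
      CommRingCat.ofHom (algebraMap B₀ C₀) ≫ ιC = ιB ≫ ψ ∧ (letI := ψ.hom.toAlgebra; Quiet.IsRootTower p n B C) ∧
      Function.Surjective (Spec.map ψ) ∧ IsOpenImmersion (Spec.map ιB) ∧ IsOpenImmersion (Spec.map ιC) ∧
      Set.range (Spec.map ιC) = (PrimeSpectrum.basicOpen c : Set (PrimeSpectrum C₀)) := by
  obtain ⟨b, hb⟩ := exists_pow n _ _ h0 hT c
  let B := Localization.Away b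
  let C := Localization.Away (algebraMap B₀ C₀ b)
  letI : Algebra B C := (IsLocalization.Away.map B C (algebraMap B₀ C₀) b).toAlgebra
  haveI : IsScalarTower B₀ B C := IsScalarTower.of_algebraMap_eq fun z => by
    rw [IsScalarTower.algebraMap_apply B₀ C₀ C]
    exact (IsLocalization.map_eq (S := B) (Q := C)
      (show Submonoid.powers b ≤ (Submonoid.powers (algebraMap B₀ C₀ b)).comap (algebraMap B₀ C₀) by
        rintro _ ⟨k, rfl⟩; exact ⟨k, (map_pow _ _ _).symm⟩) z).symm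
  haveI : IsLocalization (Algebra.algebraMapSubmonoid C₀ (Submonoid.powers b)) C := by
    rw [Algebra.algebraMapSubmonoid, Submonoid.map_powers]
    exact inferInstanceAs (IsLocalization.Away (algebraMap B₀ C₀ b) C)
  haveI : Algebra.IsPushout B₀ B C₀ C := (Algebra.isPushout_of_isLocalization (Submonoid.powers b) B C₀ C).symm
  have hTB : Quiet.IsRootTower p n B C := baseChange n B₀ B C₀ C hT
  obtain ⟨-, hfin, hinj⟩ := free_finite (Fact.out : p.Prime).ne_zero n B C hTB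
  refine ⟨CommRingCat.of B, CommRingCat.of C, CommRingCat.ofHom (algebraMap B₀ B),
    CommRingCat.ofHom (algebraMap C₀ C), CommRingCat.ofHom (algebraMap B C), ?_, ?_,
    RingHom.IsIntegral.comap_surjective (algebraMap_isIntegral_iff.2 (Algebra.IsIntegral.of_finite B C)) hinj,
    IsOpenImmersion.of_isLocalization b, IsOpenImmersion.of_isLocalization (algebraMap B₀ C₀ b), ?_⟩
  · ext z
    exact (IsScalarTower.algebraMap_apply B₀ C₀ C z).symm.trans (IsScalarTower.algebraMap_apply B₀ B C z)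
  · convert hTB
  · refine (PrimeSpectrum.localization_away_comap_range C (algebraMap B₀ C₀ b)).trans ?_
    rw [hb, PrimeSpectrum.basicOpen_pow _ _ (pow_pos (Fact.out : p.Prime).pos n)]

theorem exists_chart [Fact p.Prime] {X Y : Scheme.{u}} [FrobSch.IsCharP X p] {f : Y ⟶ X}
    (hf : Quiet.IsQuiet p f) (y : Y) {V : X.Opens} (hV : IsAffineOpen V) (hyV : f y ∈ V) (W : Y.Opens)
    (hyW : y ∈ W) :
    ∃ (C : CommRingCat.{u}) (φ : Γ(X, V) ⟶ C) (j : Spec C ⟶ Y),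
      IsOpenImmersion j ∧ y ∈ Set.range j ∧ Set.range j ⊆ W ∧ j ≫ f = Spec.map φ ≫ hV.fromSpec ∧
        QuietHom p φ.hom := by
  obtain ⟨V₀, Y', r, e, hy, hr, he, hre⟩ := hf y
  obtain ⟨⟨U₀, hU₀⟩, hy', hA, n, hT⟩ := hr (r ⟨y, hy⟩)
  let φ₂ : Γ(Y', U₀) ⟶ Γ((V₀ : Scheme.{u}), r ⁻¹ᵁ U₀) := r.app U₀
  let j₀ : Spec Γ((V₀ : Scheme.{u}), r ⁻¹ᵁ U₀) ⟶ Y := hA.fromSpec ≫ V₀.ι
  have hsq₀ : j₀ ≫ f = Spec.map φ₂ ≫ hU₀.fromSpec ≫ e := by
    simp only [j₀, φ₂, Category.assoc]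
    rw [← hre, ← Category.assoc, ← IsAffineOpen.SpecMap_appLE_fromSpec r hU₀ hA le_rfl, Scheme.Hom.app_eq_appLE,
      Category.assoc]
  obtain ⟨q, hq⟩ : ∃ q, hA.fromSpec q = (⟨y, hy⟩ : (V₀ : Scheme.{u})) := by
    have : (⟨y, hy⟩ : (V₀ : Scheme.{u})) ∈ Set.range hA.fromSpec := by rw [hA.range_fromSpec]; exact hy'
    exact this
  have hq' : j₀ q = y := by
    show V₀.ι (hA.fromSpec q) = y
    rw [hq]
    rfl
  let O := j₀ ⁻¹ᵁ (W ⊓ f ⁻¹ᵁ V)
  have hqO : q ∈ O := by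
    show j₀ q ∈ W ⊓ f ⁻¹ᵁ V
    rw [hq']
    exact ⟨hyW, hyV⟩
  obtain ⟨_, ⟨_, ⟨c, rfl⟩, rfl⟩, hqc, hcO⟩ := PrimeSpectrum.isBasis_basic_opens.exists_subset_of_mem_open hqO O.2
  have h00 : (p : Γ(Y', U₀)) = 0 := by
    haveI : FrobSch.IsCharP Y' p := FrobSch.IsCharP.of_hom e p
    exact FrobSch.natCast_eq_zero_app Y' p U₀
  letI : Algebra Γ(Y', U₀) Γ((V₀ : Scheme.{u}), r ⁻¹ᵁ U₀) := φ₂.hom.toAlgebra
  obtain ⟨B, C, ιB, ιC, ψ, hcomp, hTB, hψs, hoB, hoC, hrC⟩ := exists_localized h00 hT c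
  let ℓ : Spec B ⟶ X := Spec.map ιB ≫ hU₀.fromSpec ≫ e
  let j : Spec C ⟶ Y := Spec.map ιC ≫ j₀
  have hj : j ≫ f = Spec.map ψ ≫ ℓ := by
    simp only [j, ℓ, Category.assoc, hsq₀]
    rw [← Spec.map_comp_assoc, ← Spec.map_comp_assoc]
    congr 2
  have hrange : ∀ z, j z ∈ W ⊓ f ⁻¹ᵁ V := fun z => by
    refine hcO (?_ : Spec.map ιC z ∈ PrimeSpectrum.basicOpen c)
    exact hrC.le ⟨z, rfl⟩
  have hℓ : Set.range ℓ ⊆ Set.range hV.fromSpec := by
    rw [hV.range_fromSpec]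
    rintro _ ⟨z, rfl⟩
    obtain ⟨w, rfl⟩ := hψs z
    have := (hrange w).2
    rw [show ℓ (Spec.map ψ w) = f (j w) from (congrArg (fun k => k w) hj).symm]
    exact this
  let i := IsOpenImmersion.lift hV.fromSpec ℓ hℓ
  have hi : i ≫ hV.fromSpec = ℓ := IsOpenImmersion.lift_fac _ _ _
  haveI : Etale ℓ := by
    haveI := hoB
    infer_instance
  haveI : Etale (i ≫ hV.fromSpec) := by rw [hi]; infer_instance
  haveI : Etale i := MorphismProperty.of_postcomp (W := @Etale) (W' := @Etale) i hV.fromSpec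
    (inferInstance : Etale hV.fromSpec) this
  haveI := hoC
  refine ⟨C, Spec.preimage i ≫ ψ, j, inferInstance, ?_,
    fun _ ⟨z, hz⟩ => hz ▸ (hrange z).1, ?_, n, B, inferInstance, (Spec.preimage i).hom, ψ.hom, rfl, ?_, hTB⟩
  · obtain ⟨z, hz⟩ := hrC.ge hqc
    exact ⟨z, (congrArg j₀ hz).trans hq'⟩
  · rw [hj, Spec.map_comp, Spec.map_preimage, Category.assoc, hi]
  · have : Etale (Spec.map (Spec.preimage i)) := by rwa [Spec.map_preimage]
    rwa [HasRingHomProperty.Spec_iff (P := @Etale)] at this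

end GrothLib.RootTower4

namespace GrothLib.RootTower4

variable {p : ℕ}

theorem quietHom_comp_bijective [Fact p.Prime] {A C C' : Type u} [CommRing A] [CommRing C] [CommRing C']
    {φ : A →+* C} (hφ : QuietHom p φ) (e : C ≃+* C') : QuietHom p (e.toRingHom.comp φ) := by
  obtain ⟨n, B, _, φ₁, φ₂, rfl, hφ₁, hφ₂⟩ := hφ
  exact ⟨n, B, inferInstance, φ₁, e.toRingHom.comp φ₂, rfl, hφ₁,
    tower_of_iso φ₂ _ (RingEquiv.refl B) e (fun _ => rfl) hφ₂⟩

theorem exists_appLE [Fact p.Prime] {X Y : Scheme.{u}} [FrobSch.IsCharP X p] {f : Y ⟶ X}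
    (hf : Quiet.IsQuiet p f) (y : Y) {V : X.Opens} (hV : IsAffineOpen V) (hyV : f y ∈ V) :
    ∃ (U : Y.Opens) (_ : IsAffineOpen U) (e : U ≤ f ⁻¹ᵁ V), y ∈ U ∧ QuietHom p (f.appLE V U e).hom := by
  obtain ⟨C, φ, j, hj, hy, -, hsq, hq⟩ := exists_chart hf y hV hyV ⊤ trivial
  have hU : IsAffineOpen j.opensRange := isAffineOpen_opensRange j
  have he : j.opensRange ≤ f ⁻¹ᵁ V := by
    rintro _ ⟨z, rfl⟩
    show f (j z) ∈ V
    rw [← SetLike.mem_coe, ← hV.range_fromSpec]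
    exact ⟨Spec.map φ z, (congrArg (fun k => k z) hsq).symm⟩
  refine ⟨j.opensRange, hU, he, hy, ?_⟩
  have hr : Set.range hU.fromSpec = Set.range j := hU.range_fromSpec
  let θ := IsOpenImmersion.isoOfRangeEq hU.fromSpec j hr
  have hθ : θ.hom ≫ j = hU.fromSpec := IsOpenImmersion.isoOfRangeEq_hom_fac _ _ _
  have happ : f.appLE V j.opensRange he = φ ≫ Spec.preimage θ.hom := by
    apply Spec.map_injective
    rw [← cancel_mono hV.fromSpec, IsAffineOpen.SpecMap_appLE_fromSpec f hV hU he, Spec.map_comp, Spec.map_preimage,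
      Category.assoc, ← hsq, ← Category.assoc, hθ]
  rw [happ, CommRingCat.hom_comp]
  let ε : C ≅ Γ(Y, j.opensRange) :=
    { hom := Spec.preimage θ.hom
      inv := Spec.preimage θ.inv
      hom_inv_id := Spec.map_injective (by rw [Spec.map_comp, Spec.map_preimage, Spec.map_preimage, Spec.map_id, θ.inv_hom_id])
      inv_hom_id := Spec.map_injective (by rw [Spec.map_comp, Spec.map_preimage, Spec.map_preimage, Spec.map_id, θ.hom_inv_id]) }
  exact quietHom_comp_bijective hq ε.commRingCatIsoToRingEquiv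

theorem isQuiet_of_appLE {X Y : Scheme.{u}} (f : Y ⟶ X)
    (h : ∀ y : Y, ∃ (V : X.Opens) (U : Y.Opens) (_ : IsAffineOpen V) (_ : IsAffineOpen U) (e : U ≤ f ⁻¹ᵁ V),
      y ∈ U ∧ QuietHom p (f.appLE V U e).hom) : Quiet.IsQuiet p f := by
  refine isQuiet_of_charts f fun y => ?_
  obtain ⟨V, U, hV, hU, e, hy, hq⟩ := h y
  exact ⟨_, _, f.appLE V U e, hU.fromSpec, hV.fromSpec, inferInstance, inferInstance,
    by rw [hU.range_fromSpec]; exact hy, (IsAffineOpen.SpecMap_appLE_fromSpec f hV hU e).symm, hq⟩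

end GrothLib.RootTower4
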