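import Groth.Agent.Lib.RootTower4.Scheme
import Groth.Agent.Lib.LCI6.Syntomic
import Groth.Agent.Lib.LCI6.Presentation
import Groth.Agent.Lib.LCI6.Smooth
import Groth.Agent.Lib.LCI6.LCI
import Mathlib

/-! # Towers of root extractions are syntomic -/

set_option autoImplicit false
set_option linter.style.haveILetI false
set_option backward.isDefEq.respectTransparency false

universe u

open GrothLib.LCI6

namespace GrothLib.RootTower4

theorem isLCI_adjoinRoot {A : Type u} [CommRing A] (f : Polynomial A) (hf : f.Monic) :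
    LCI.IsLCI A (AdjoinRoot f) := by
  let e : MvPolynomial (Fin 1) A ≃ₐ[A] Polynomial A := MvPolynomial.uniqueAlgEquiv A (Fin 1)
  let α : MvPolynomial (Fin 1) A →ₐ[A] AdjoinRoot f := (AdjoinRoot.mkₐ f).comp e.toAlgHom
  have hα : Function.Surjective α := AdjoinRoot.mk_surjective.comp e.surjective
  refine ⟨inferInstance, 1, α, hα, (isKoszulRegularIdeal_ker_iff α.toRingHom hα).2 fun 𝔮 _ => ?_⟩
  refine kRegAt_of_seq _ (isKoszulRegularSeq_singleton (e.symm f) fun x hx => ?_) ?_
  · have h := congrArg e hx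
    rw [map_mul, e.apply_symm_apply, map_zero] at h
    exact e.injective ((hf.mul_right_eq_zero_iff.1 h).trans (map_zero e).symm)
  · rw [ofList_ofFn, Set.range_const]
    ext x
    show AdjoinRoot.mk f (e x) = 0 ↔ _
    rw [AdjoinRoot.mk_eq_zero, Ideal.mem_span_singleton, ← map_dvd_iff e, e.apply_symm_apply]

theorem isLCI_tower {p : ℕ} (hp : p ≠ 0) : ∀ (n : ℕ) (A B : Type u) [CommRing A] [CommRing B] [Algebra A B],
    Quiet.IsRootTower p n A B → LCI.IsLCI A B
  | 0, A, B, _, _, _, ⟨f⟩ => isLCI_of_algEquiv f.symm (isLCI_of_smooth A A)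
  | n + 1, A, B, _, _, _, ⟨a, h1, h2, h⟩ => by
    letI := h1
    haveI := h2
    exact isLCI_comp (Cc := Quiet.RootRing p A a) (isLCI_adjoinRoot _ (monic_root hp a)) (isLCI_tower hp n _ B h)

theorem isSyntomic_of_quietHom {p : ℕ} (hp : p ≠ 0) {A C : Type u} [CommRing A] [CommRing C] [Algebra A C]
    (h : QuietHom p (algebraMap A C)) : Synt.IsSyntomic A C := by
  obtain ⟨n, B, _, φ₁, φ₂, hφ, hφ₁, hφ₂⟩ := h
  letI := φ₁.toAlgebra
  letI := φ₂.toAlgebra
  haveI : IsScalarTower A B C := IsScalarTower.of_algebraMap_eq' hφ.symm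
  haveI : Algebra.Etale A B := hφ₁
  obtain ⟨hfree, -, -⟩ := free_finite hp n B C hφ₂
  exact isSyntomic_iff.2 ⟨Module.Flat.trans A B C, isLCI_comp (Cc := B) (isLCI_of_smooth A B) (isLCI_tower hp n B C hφ₂)⟩

end GrothLib.RootTower4
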